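import Mathlib
import Cfsg.Agent.H618.FormNine
import Cfsg.Agent.H632.TwoChars
import Cfsg.Agent.H613.KS.Defs
import Cfsg.Agent.H603.DX.Int

/-!
# Blocks with defect group `2 ^ 4` and inertial index nine: the characters have height zero

* `rows_nine`: the two orthogonal systems of four integral rows of norm four with common sum `d`, where
  `d χ * d ψ` is `16` times the contribution of a subsection of rank one;
* `height_zero_nine`: all heights are zero.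
-/

set_option autoImplicit false
set_option linter.unusedSectionVars false

open Cfsg
open scoped ComplexConjugate

namespace Cfsg.Agent.H618.KS

open Cfsg.Agent.Blocks.Blau Cfsg.Agent.Blocks.Local
open Cfsg.Agent.H651 Cfsg.Agent.H649 Cfsg.Agent.Characters
open Cfsg.Agent.H652.DoubleCount Cfsg.Agent.H645.FusCount Cfsg.Agent.H650
open Cfsg.Agent.H645.TraceForm Cfsg.Agent.H645.LocMono Cfsg.Agent.H645.Watanabe
open Cfsg.Agent.H652.Ctr Cfsg.Agent.H652.CtrOne Cfsg.Agent.H613.RegGram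
open Cfsg.Agent.H613.Contrib Cfsg.Agent.H613.ContribVal
open Cfsg.Agent.H617.AbelRank Cfsg.Agent.H617.StarAut Cfsg.Agent.H617.StarCols
open Cfsg.Agent.H617.RankOneCol
open Cfsg.Agent.H618 Cfsg.Agent.H618.StarGen Cfsg.Agent.H618.LemmaR Cfsg.Agent.H616.Form
open Cfsg.Agent.H618.FormNine

universe u

variable {G : Type u} [Group G] [Fintype G] {M : Ideal AlgInt} [M.IsPrime]

section

variable (hM : IsPModular 2 M) {B : Set (IrrCharacter G)} {a : BrauerPairIdx G}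
  (hmax : IsMaximalBrauerPair 2 M B a.1 a.2) (hcard : Nat.card a.1 = 16)
  (hel : ∀ x ∈ a.1, x * x = 1)

include hM hmax hcard hel

/-- **The rows.** -/
theorem rows_nine [Fintype B] (hidx : (Subgroup.centralizer (a.1 : Set G)).relIndex (stab a) = 9) :
    8 ≤ Fintype.card B ∧ ∃ (v : a.1) (d : IrrCharacter G → ℤ) (x y : Fin 4 → B → ℤ),
      (∀ χ ψ : IrrCharacter G, ((d χ * d ψ : ℤ) : ℂ) =
        16 * ctr 2 (v : G) (bP 2 M a (v : G)) (χ : G → ℂ) (ψ : G → ℂ)) ∧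
      (∀ i j, ∑ c, x i c * x j c = if i = j then 4 else 0) ∧
      (∀ i j, ∑ c, y i c * y j c = if i = j then 4 else 0) ∧
      (∀ i j, ∑ c, x i c * y j c = 1) ∧ (∀ c : B, ∑ i, x i c = d c) ∧ (∀ c : B, ∑ i, y i c = d c) ∧
      ∀ c : B, d c ≠ 0 := by
  classical
  have hel' : ∀ x : a.1, x * x = 1 := fun x => Subtype.ext (hel x x.2)
  have hab : ∀ x ∈ a.1, ∀ y ∈ a.1, x * y = y * x := fun x hx y hy =>
    congrArg Subtype.val (AutNine.comm_of_el hel' ⟨x, hx⟩ ⟨y, hy⟩)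
  have := Core.finite_irr (G := G)
  have := Fintype.ofFinite a.1
  have hcf : ∀ χ : IrrCharacter G, IsClassFunction G (χ : G → ℂ) := fun χ =>
    Core.isIrr_isClassFunction χ.2
  have hF : Nat.card (autG a) = 9 := by rw [card_autG hM hmax hab, hidx]
  obtain ⟨V₁, V₂, hD⟩ := AutNine.exists_dec hel' hcard hF
  have hD' := hD.symm hel'
  obtain ⟨u₁, hu₁, hu₁1⟩ := hD.exists₁
  obtain ⟨u₂, hu₂, hu₂1⟩ := hD'.exists₁
  obtain ⟨u₃, hu₃⟩ : ∃ u₃, u₃ = u₁ * u₂ := ⟨_, rfl⟩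
  -- the orbits
  have horb₁ := fun v hv hv1 => hD.mem_orbit hel' hF hu₁ hu₁1 (v := v) hv hv1
  have horb₂ := fun v hv hv1 => hD'.mem_orbit hel' hF hu₂ hu₂1 (v := v) hv hv1
  have hst₁ := hD.st₁
  have hst₂ := hD.st₂
  have hnot₁ : ∀ v, v ∈ MulAction.orbit (autG a) u₁ → v ∈ V₁ ∧ v ≠ 1 := by
    intro v hv
    obtain ⟨α, hα, rfl⟩ := mem_orbit_iff.1 hv
    exact ⟨hst₁ α hα u₁ hu₁, fun h => hu₁1 (by rw [← map_one α] at h; exact α.injective h)⟩
  have hnot₂ : ∀ v, v ∈ MulAction.orbit (autG a) u₂ → v ∈ V₂ ∧ v ≠ 1 := by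
    intro v hv
    obtain ⟨α, hα, rfl⟩ := mem_orbit_iff.1 hv
    exact ⟨hst₂ α hα u₂ hu₂, fun h => hu₂1 (by rw [← map_one α] at h; exact α.injective h)⟩
  have hu₃₁ : u₃ ∉ V₁ := by
    intro h
    rw [hu₃] at h
    exact hu₂1 (hD.disj u₂ ((V₁.mul_mem_cancel_left hu₁).1 h) hu₂)
  have hu₃₂ : u₃ ∉ V₂ := by
    intro h
    rw [hu₃] at h
    exact hu₁1 (hD.disj u₁ hu₁ ((V₂.mul_mem_cancel_right hu₂).1 h))
  have hnot₃ : ∀ v, v ∈ MulAction.orbit (autG a) u₃ → v ∉ V₁ ∧ v ∉ V₂ := by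
    intro v hv
    obtain ⟨α, hα, rfl⟩ := mem_orbit_iff.1 hv
    have h1 : α⁻¹ (α u₃) = u₃ := by rw [← MulAut.mul_apply, inv_mul_cancel, MulAut.one_apply]
    refine ⟨fun h => hu₃₁ ?_, fun h => hu₃₂ ?_⟩
    · rw [← h1]; exact hst₁ _ ((autG a).inv_mem hα) _ h
    · rw [← h1]; exact hst₂ _ ((autG a).inv_mem hα) _ h
  have horb₃ : ∀ v, v ∉ V₁ → v ∉ V₂ → v ∈ MulAction.orbit (autG a) u₃ := by
    intro v h1 h2
    rw [hu₃]
    exact hD.mem_orbit_mul hel' hcard hF hu₁ hu₁1 hu₂ hu₂1 h1 h2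
  have hone : ∀ v : a.1, v ≠ 1 → v ∉ MulAction.orbit (autG a) (1 : a.1) := fun v hv =>
    notMem_one hv
  -- the sum of the indicators
  have hsum1 : ∀ v : a.1, dl 1 v + dl u₁ v + dl u₂ v + dl u₃ v = 1 := by
    intro v
    have e1 := dl_add hst₁ hu₁ hu₁1 horb₁ v
    by_cases h1 : v ∈ V₁
    · rw [if_pos h1] at e1
      have h3 : v ∉ MulAction.orbit (autG a) u₃ := fun h => (hnot₃ v h).1 h1
      have h2 : v ∉ MulAction.orbit (autG a) u₂ := fun h =>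
        (hnot₂ v h).2 (hD.disj v h1 (hnot₂ v h).1)
      rw [e1, dl_of_notMem h2, dl_of_notMem h3]
      ring
    · rw [if_neg h1] at e1
      have h1' : v ≠ 1 := fun h => h1 (by rw [h]; exact V₁.one_mem)
      rw [e1]
      by_cases h2 : v ∈ V₂
      · have h3 : v ∉ MulAction.orbit (autG a) u₃ := fun h => (hnot₃ v h).2 h2
        rw [dl_of_mem (horb₂ v h2 h1'), dl_of_notMem h3]
        ring
      · rw [dl_of_mem (horb₃ v h1 h2), dl_of_notMem fun h => h2 (hnot₂ v h).1]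
        ring
  -- the data
  obtain ⟨hl₁, X, hX⟩ := local_cols hM hmax hcard hel hF hD hu₁ hu₁1
  obtain ⟨hl₂, Y, hY⟩ := local_cols hM hmax hcard hel hF hD' hu₂ hu₂1
  have hl₃ : blockRank 2 (bP 2 M a (u₃ : G)).2 = 1 := by
    refine rank_one_at hM hmax hab u₃.2 fun t ht htv x hx => ?_
    obtain ⟨α, hα, h1⟩ := exists_autG hM hmax hab ht
    have h2 : α = 1 := by
      refine hD.stab_mul hel' hF hu₁ hu₁1 hu₂ hu₂1 hα ?_
      rw [← hu₃]
      apply Subtype.ext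
      rw [h1, htv]
    have h3 := h1 ⟨x, hx⟩
    rw [h2, MulAut.one_apply] at h3
    exact h3.symm
  have hl₀ : blockRank 2 (bP 2 M a ((1 : a.1) : G)).2 = blockRank 2 B :=
    rank_eq hM hmax hab (1 : a.1).2 fun t _ => by simp
  obtain ⟨d, hd⟩ := exists_col hM hmax hab u₃.2 (hel u₃ u₃.2) hl₃
  rw [hcard] at hd
  -- the integral matrices
  set c₀ : IrrCharacter G → IrrCharacter G → ℂ := fun χ ψ =>
    ctr 2 ((1 : a.1) : G) (bP 2 M a ((1 : a.1) : G)) (χ : G → ℂ) (ψ : G → ℂ) with hc₀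
  set R₁ : IrrCharacter G → IrrCharacter G → ℤ := fun χ ψ =>
    4 * ∑ i, X χ i * X ψ i - (∑ i, X χ i) * (∑ i, X ψ i) with hR₁
  set R₂ : IrrCharacter G → IrrCharacter G → ℤ := fun χ ψ =>
    4 * ∑ i, Y χ i * Y ψ i - (∑ i, Y χ i) * (∑ i, Y ψ i) with hR₂
  set R₃ : IrrCharacter G → IrrCharacter G → ℤ := fun χ ψ => d χ * d ψ with hR₃
  have hr₁ : ∀ χ ψ : IrrCharacter G, (R₁ χ ψ : ℂ) =
      16 * ctr 2 (u₁ : G) (bP 2 M a (u₁ : G)) (χ : G → ℂ) (ψ : G → ℂ) := fun χ ψ => (hX χ ψ).symm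
  have hr₂ : ∀ χ ψ : IrrCharacter G, (R₂ χ ψ : ℂ) =
      16 * ctr 2 (u₂ : G) (bP 2 M a (u₂ : G)) (χ : G → ℂ) (ψ : G → ℂ) := fun χ ψ => (hY χ ψ).symm
  have hr₃ : ∀ χ ψ : IrrCharacter G, (R₃ χ ψ : ℂ) =
      16 * ctr 2 (u₃ : G) (bP 2 M a (u₃ : G)) (χ : G → ℂ) (ψ : G → ℂ) := fun χ ψ => by
    have h1 := hd χ ψ
    simp only [hR₃]
    push_cast
    rw [← h1]
    norm_num
  -- the total
  have htot : ∀ χ ∈ B, ∀ ψ : IrrCharacter G, (if χ = ψ then (16 : ℂ) else 0) =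
      16 * c₀ χ ψ + R₁ χ ψ + R₂ χ ψ + R₃ χ ψ := by
    intro χ hχ ψ
    have h1 := phi_one hM hmax hab hχ ψ
    have h2 : phi 2 M (a := a) (fun _ => 1) (χ : G → ℂ) (ψ : G → ℂ) =
        c₀ χ ψ + ctr 2 (u₁ : G) (bP 2 M a (u₁ : G)) (χ : G → ℂ) (ψ : G → ℂ) +
        ctr 2 (u₂ : G) (bP 2 M a (u₂ : G)) (χ : G → ℂ) (ψ : G → ℂ) +
        ctr 2 (u₃ : G) (bP 2 M a (u₃ : G)) (χ : G → ℂ) (ψ : G → ℂ) := by
      rw [hc₀]
      simp only
      rw [← phi_dl hM hmax hab (1 : a.1) (hcf χ) (hcf ψ), ← phi_dl hM hmax hab u₁ (hcf χ) (hcf ψ),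
        ← phi_dl hM hmax hab u₂ (hcf χ) (hcf ψ), ← phi_dl hM hmax hab u₃ (hcf χ) (hcf ψ),
        phi_eq hM hmax hab (inv_dl _) (hcf χ) (hcf ψ), phi_eq hM hmax hab (inv_dl _) (hcf χ) (hcf ψ),
        phi_eq hM hmax hab (inv_dl _) (hcf χ) (hcf ψ), phi_eq hM hmax hab (inv_dl _) (hcf χ) (hcf ψ),
        phi_eq hM hmax hab (inv_const 1) (hcf χ) (hcf ψ), ← Finset.sum_add_distrib,
        ← Finset.sum_add_distrib, ← Finset.sum_add_distrib]
      refine Finset.sum_congr rfl fun v _ => ?_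
      rw [← hsum1 v]
      ring
    rw [h2] at h1
    rw [hr₁, hr₂, hr₃]
    have h3 : (if χ = ψ then (16 : ℂ) else 0) = 16 * (if χ = ψ then 1 else 0) := by
      split_ifs <;> norm_num
    rw [h3, ← h1]
    ring
  -- traces
  have htr : ∀ (u : a.1) (R : IrrCharacter G → IrrCharacter G → ℤ),
      (∀ χ ψ : IrrCharacter G, (R χ ψ : ℂ) =
        16 * ctr 2 (u : G) (bP 2 M a (u : G)) (χ : G → ℂ) (ψ : G → ℂ)) →
      ∑ χ : B, R χ χ = 16 * (blockRank 2 (bP 2 M a (u : G)).2 : ℤ) := by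
    intro u R hR
    have h1 := sum_ctr_self hM hmax u.2
    have h2 : ((∑ χ : B, R χ χ : ℤ) : ℂ) =
        ((16 * (blockRank 2 (bP 2 M a (u : G)).2 : ℤ) : ℤ) : ℂ) := by
      push_cast
      rw [← h1, Finset.mul_sum]
      exact Finset.sum_congr rfl fun χ _ => hR χ χ
    exact_mod_cast h2
  have ht₁ := htr u₁ R₁ hr₁
  have ht₂ := htr u₂ R₂ hr₂
  have ht₃ := htr u₃ R₃ hr₃
  rw [hl₁] at ht₁
  rw [hl₂] at ht₂
  rw [hl₃] at ht₃
  have hk : Fintype.card B = blockRank 2 B + 7 := by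
    have h1 := sum_ctr_self hM hmax (1 : a.1).2
    rw [hl₀] at h1
    have h2 : ∑ χ : B, (16 : ℂ) = ∑ χ : B, (16 * c₀ χ χ + R₁ χ χ + R₂ χ χ + R₃ χ χ) :=
      Finset.sum_congr rfl fun χ _ => by
        rw [← htot χ χ.2 χ, if_pos rfl]
    rw [Finset.sum_add_distrib, Finset.sum_add_distrib, Finset.sum_add_distrib, ← Finset.mul_sum,
      Finset.sum_const, Finset.card_univ, nsmul_eq_mul] at h2
    have e1 : (∑ χ : B, (R₁ χ χ : ℂ)) = 48 := by
      rw [← Int.cast_sum, ht₁]; norm_num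
    have e2 : (∑ χ : B, (R₂ χ χ : ℂ)) = 48 := by
      rw [← Int.cast_sum, ht₂]; norm_num
    have e3 : (∑ χ : B, (R₃ χ χ : ℂ)) = 16 := by
      rw [← Int.cast_sum, ht₃]; norm_num
    rw [e1, e2, e3] at h2
    have e0 : ∑ χ : B, c₀ χ χ = blockRank 2 B := h1
    rw [e0] at h2
    have h3 : (Fintype.card B : ℂ) = ((blockRank 2 B + 7 : ℕ) : ℂ) := by
      push_cast
      linear_combination (1 / 16 : ℂ) * h2
    exact_mod_cast h3
  have h8 : 8 ≤ Fintype.card B := by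
    have h1 := Cfsg.Agent.H632.TwoChars.blockRank_pos hM hmax.1.2.1
    omega
  -- orthogonality
  have horth : ∀ (u v : a.1) (R R' : IrrCharacter G → IrrCharacter G → ℤ),
      (∀ χ ψ : IrrCharacter G, (R χ ψ : ℂ) =
        16 * ctr 2 (u : G) (bP 2 M a (u : G)) (χ : G → ℂ) (ψ : G → ℂ)) →
      (∀ χ ψ : IrrCharacter G, (R' χ ψ : ℂ) =
        16 * ctr 2 (v : G) (bP 2 M a (v : G)) (χ : G → ℂ) (ψ : G → ℂ)) →
      v ∉ MulAction.orbit (autG a) u → ∀ χ ∈ B, ∀ χ' : IrrCharacter G,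
      ∑ ψ : B, R χ ψ * R' χ' ψ = 0 := by
    intro u v R R' hR hR' huv χ hχ χ'
    have h1 := sum_ctr_ne hM hmax hab huv (χ' := χ') hχ
    have h2 : ((∑ ψ : B, R χ ψ * R' χ' ψ : ℤ) : ℂ) = 0 := by
      push_cast
      rw [← mul_zero (16 * 16 : ℂ), ← h1, Finset.mul_sum]
      refine Finset.sum_congr rfl fun ψ _ => ?_
      have h3 := congrArg conj (hR' χ' ψ)
      rw [map_intCast, map_mul, map_ofNat] at h3
      rw [hR, h3]
      ring
    exact_mod_cast h2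
  have hidem : ∀ (u : a.1) (R : IrrCharacter G → IrrCharacter G → ℤ),
      (∀ χ ψ : IrrCharacter G, (R χ ψ : ℂ) =
        16 * ctr 2 (u : G) (bP 2 M a (u : G)) (χ : G → ℂ) (ψ : G → ℂ)) →
      ∀ χ ∈ B, ∀ χ' : IrrCharacter G, ∑ ψ : B, R χ ψ * R χ' ψ = 16 * R χ χ' := by
    intro u R hR χ hχ χ'
    have h1 := sum_ctr_same hM hmax hab u (χ' := χ') hχ
    have h2 : ((∑ ψ : B, R χ ψ * R χ' ψ : ℤ) : ℂ) = ((16 * R χ χ' : ℤ) : ℂ) := by
      push_cast
      rw [hR χ χ', ← h1, Finset.mul_sum, Finset.mul_sum]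
      refine Finset.sum_congr rfl fun ψ _ => ?_
      have h3 := congrArg conj (hR χ' ψ)
      rw [map_intCast, map_mul, map_ofNat] at h3
      rw [hR, h3]
      ring
    exact_mod_cast h2
  have n12 : u₂ ∉ MulAction.orbit (autG a) u₁ := fun h =>
    hu₂1 (hD.disj u₂ (hnot₁ u₂ h).1 hu₂)
  have n13 : u₃ ∉ MulAction.orbit (autG a) u₁ := fun h => hu₃₁ (hnot₁ u₃ h).1
  have n31 : u₁ ∉ MulAction.orbit (autG a) u₃ := fun h => (hnot₃ u₁ h).1 hu₁
  have n23 : u₃ ∉ MulAction.orbit (autG a) u₂ := fun h => hu₃₂ (hnot₂ u₃ h).1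
  have n32 : u₂ ∉ MulAction.orbit (autG a) u₃ := fun h => (hnot₃ u₂ h).2 hu₂
  have o12 := horth u₁ u₂ R₁ R₂ hr₁ hr₂ n12
  have o13 := horth u₁ u₃ R₁ R₃ hr₁ hr₃ n13
  have o31 := horth u₃ u₁ R₃ R₁ hr₃ hr₁ n31
  have o23 := horth u₂ u₃ R₂ R₃ hr₂ hr₃ n23
  have o32 := horth u₃ u₂ R₃ R₂ hr₃ hr₂ n32
  have i1 := hidem u₁ R₁ hr₁
  have i2 := hidem u₂ R₂ hr₂
  have i3 := hidem u₃ R₃ hr₃
  -- the congruences
  have hind₁ : V₁.index = 4 := by
    have h7 := Subgroup.card_mul_index V₁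
    rw [hD.card₁, hcard] at h7
    omega
  have hind₂ : V₂.index = 4 := by
    have h7 := Subgroup.card_mul_index V₂
    rw [hD.card₂, hcard] at h7
    omega
  have hcong₁ : ∀ χ ∈ B, ∀ ψ : IrrCharacter G, (4 : ℤ) ∣ R₁ χ ψ + R₃ χ ψ := by
    intro χ hχ ψ
    obtain ⟨n, hn⟩ := exists_int hM hmax hab hst₂ hind₂ hu₂ hu₂1 horb₂ χ ψ
    have h1 := htot χ hχ ψ
    rw [hr₂ χ ψ] at h1
    have h2 : ((R₁ χ ψ + R₃ χ ψ : ℤ) : ℂ) = (((if χ = ψ then 16 else 0) - 4 * n : ℤ) : ℂ) := by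
      push_cast
      rw [h1, hn]
      ring
    have h3 : R₁ χ ψ + R₃ χ ψ = (if χ = ψ then 16 else 0) - 4 * n := by exact_mod_cast h2
    rw [h3]
    refine dvd_sub ?_ (Dvd.intro _ rfl)
    split_ifs
    · norm_num
    · exact dvd_zero 4
  have hcong₂ : ∀ χ ∈ B, ∀ ψ : IrrCharacter G, (4 : ℤ) ∣ R₂ χ ψ + R₃ χ ψ := by
    intro χ hχ ψ
    obtain ⟨n, hn⟩ := exists_int hM hmax hab hst₁ hind₁ hu₁ hu₁1 horb₁ χ ψ
    have h1 := htot χ hχ ψ
    rw [hr₁ χ ψ] at h1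
    have h2 : ((R₂ χ ψ + R₃ χ ψ : ℤ) : ℂ) = (((if χ = ψ then 16 else 0) - 4 * n : ℤ) : ℂ) := by
      push_cast
      rw [h1, hn]
      ring
    have h3 : R₂ χ ψ + R₃ χ ψ = (if χ = ψ then 16 else 0) - 4 * n := by exact_mod_cast h2
    rw [h3]
    refine dvd_sub ?_ (Dvd.intro _ rfl)
    split_ifs
    · norm_num
    · exact dvd_zero 4
  -- the column `d`
  have hd0 : ∀ χ : B, d χ ≠ 0 := by
    intro χ h0
    have h1 := hr₃ χ χ
    simp only [hR₃, h0, mul_zero, Int.cast_zero] at h1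
    rcases mul_eq_zero.1 h1.symm with h2 | h2
    · norm_num at h2
    · exact ctr_self_ne_zero hM hmax hab u₃.2 χ.2 h2
  have hodd : ∃ χ : B, Odd (d χ) := by
    by_contra hno
    push Not at hno
    have h1 : ∀ χ : B, 4 ≤ R₃ χ χ := by
      intro χ
      obtain ⟨k, hk⟩ := Int.not_odd_iff_even.1 (hno χ)
      have hk0 : k ≠ 0 := by
        rintro rfl
        exact hd0 χ (by rw [hk]; ring)
      have h2 : 0 < k ^ 2 := by positivity
      simp only [hR₃]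
      rw [hk]
      nlinarith
    have h2 : ∑ χ : B, (4 : ℤ) ≤ ∑ χ : B, R₃ χ χ := Finset.sum_le_sum fun χ _ => h1 χ
    rw [ht₃, Finset.sum_const, Finset.card_univ, nsmul_eq_mul] at h2
    have h3 : (8 : ℤ) ≤ Fintype.card B := by exact_mod_cast h8
    push_cast at h2
    linarith
  -- the lifts
  obtain ⟨c, hc1, hc2⟩ := CoreQ.exists_lift (ι := B) (fun χ => X χ) (fun χ => d χ) (by
    intro χ ψ
    have h1 := hcong₁ χ χ.2 ψ
    have h2 : (∑ i, X χ i) * (∑ i, X ψ i) - d χ * d ψ =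
        4 * ∑ i, X χ i * X ψ i - (R₁ χ ψ + R₃ χ ψ) := by
      simp only [hR₁, hR₃]
      ring
    rw [h2]
    exact dvd_sub (Dvd.intro _ rfl) h1) hodd
  obtain ⟨c', hc1', hc2'⟩ := CoreQ.exists_lift (ι := B) (fun χ => Y χ) (fun χ => d χ) (by
    intro χ ψ
    have h1 := hcong₂ χ χ.2 ψ
    have h2 : (∑ i, Y χ i) * (∑ i, Y ψ i) - d χ * d ψ =
        4 * ∑ i, Y χ i * Y ψ i - (R₂ χ ψ + R₃ χ ψ) := by
      simp only [hR₂, hR₃]
      ring
    rw [h2]
    exact dvd_sub (Dvd.intro _ rfl) h1) hodd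
  have hQ₁ : ∀ x y : B, 4 * ∑ i, c i x * c i y = R₁ x y + R₃ x y := by
    intro x y
    have h1 := hc2 x y
    simp only [hR₁, hR₃]
    linarith
  have hQ₂ : ∀ x y : B, 4 * ∑ i, c' i x * c' i y = R₂ x y + R₃ x y := by
    intro x y
    have h1 := hc2' x y
    simp only [hR₂, hR₃]
    linarith
  have hsw : ∀ (c : Fin 4 → B → ℤ) (x y : B), ∑ i, c i x * c i y = ∑ i, c i y * c i x :=
    fun c x y => Finset.sum_congr rfl fun i _ => mul_comm _ _
  have hgram₁ := CoreQ.gram (c := c) (fun x z => by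
    have h1 : ∑ y, (4 * ∑ i, c i x * c i y) * (4 * ∑ i, c i z * c i y) =
        16 * (R₁ x z + R₃ x z) := by
      simp only [hQ₁, add_mul, mul_add]
      rw [Finset.sum_add_distrib, Finset.sum_add_distrib, Finset.sum_add_distrib,
        i1 x x.2 z, i3 x x.2 z, o13 x x.2 z, o31 x x.2 z]
      ring
    rw [← hQ₁] at h1
    have h2 : ∑ y, (4 * ∑ i, c i x * c i y) * (4 * ∑ i, c i z * c i y) =
        16 * ∑ y, (∑ i, c i x * c i y) * (∑ i, c i y * c i z) := by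
      rw [Finset.mul_sum]
      exact Finset.sum_congr rfl fun y _ => by rw [hsw c z y]; ring
    rw [h2] at h1
    linarith) (by
    have h1 : ∑ x : B, 4 * ∑ i, c i x * c i x = 64 := by
      simp only [hQ₁]
      rw [Finset.sum_add_distrib, ht₁, ht₃]
      norm_num
    rw [← Finset.mul_sum] at h1
    linarith)
  have hgram₂ := CoreQ.gram (c := c') (fun x z => by
    have h1 : ∑ y, (4 * ∑ i, c' i x * c' i y) * (4 * ∑ i, c' i z * c' i y) =
        16 * (R₂ x z + R₃ x z) := by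
      simp only [hQ₂, add_mul, mul_add]
      rw [Finset.sum_add_distrib, Finset.sum_add_distrib, Finset.sum_add_distrib,
        i2 x x.2 z, i3 x x.2 z, o23 x x.2 z, o32 x x.2 z]
      ring
    rw [← hQ₂] at h1
    have h2 : ∑ y, (4 * ∑ i, c' i x * c' i y) * (4 * ∑ i, c' i z * c' i y) =
        16 * ∑ y, (∑ i, c' i x * c' i y) * (∑ i, c' i y * c' i z) := by
      rw [Finset.mul_sum]
      exact Finset.sum_congr rfl fun y _ => by rw [hsw c' z y]; ring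
    rw [h2] at h1
    linarith) (by
    have h1 : ∑ x : B, 4 * ∑ i, c' i x * c' i x = 64 := by
      simp only [hQ₂]
      rw [Finset.sum_add_distrib, ht₂, ht₃]
      norm_num
    rw [← Finset.mul_sum] at h1
    linarith)
  have hcross := CoreQ.cross hgram₁ hgram₂ (d := fun χ : B => d χ) hc1 hc1' (fun x z => by
    have h1 : ∑ y, (4 * ∑ i, c i x * c i y) * (4 * ∑ i, c' i z * c' i y) =
        16 * (d x * d z) := by
      simp only [hQ₁, hQ₂, add_mul, mul_add]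
      rw [Finset.sum_add_distrib, Finset.sum_add_distrib, Finset.sum_add_distrib,
        o12 x x.2 z, i3 x x.2 z, o13 x x.2 z, o32 x x.2 z]
      simp only [hR₃]
      ring
    have h2 : ∑ y, (4 * ∑ i, c i x * c i y) * (4 * ∑ i, c' i z * c' i y) =
        16 * ∑ y, (∑ i, c i x * c i y) * (∑ i, c' i y * c' i z) := by
      rw [Finset.mul_sum]
      exact Finset.sum_congr rfl fun y _ => by rw [hsw c' z y]; ring
    rw [h2] at h1
    linarith)
  exact ⟨h8, u₃, d, c, c', hr₃, hgram₁, hgram₂, hcross, hc1, hc1', hd0⟩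

end

/-- If the height of `χ` is positive, the integer column of a rank-one subsection is even at `χ`. -/
theorem even_of_height (hM : IsPModular 2 M) {B : Set (IrrCharacter G)} {a : BrauerPairIdx G}
    (hmax : IsMaximalBrauerPair 2 M B a.1 a.2) (hcard : Nat.card a.1 = 16)
    (hab : ∀ x ∈ a.1, ∀ y ∈ a.1, x * y = y * x) {v : G} (hv : v ∈ a.1) {χ : IrrCharacter G} (hχ : χ ∈ B)
    (h0 : blockHeight 2 B (χ : G → ℂ) ≠ 0) {n : ℤ}
    (hn : ((n * n : ℤ) : ℂ) = 16 * ctr 2 v (bP 2 M a v) (χ : G → ℂ) (χ : G → ℂ)) : Even n := by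
  classical
  have hp2 : Fact (Nat.Prime 2) := ⟨Nat.prime_two⟩
  have : Finite (IrrCharacter (Subgroup.centralizer ((bP 2 M a v).1 : Set G))) :=
    Core.finite_irr
  have : Fintype (Subgroup.centralizer ((bP 2 M a v).1 : Set G)) := Fintype.ofFinite _
  have : Fintype (bP 2 M a v).2 := Fintype.ofFinite _
  have hind := isInducedBlock_bP hM hmax hv
  rw [ctr_eq_contr' hM (bP_spec hM hmax.1.1 hv).1 hind.1 (Core.isIrr_isClassFunction χ.2)
    (Core.isIrr_isClassFunction χ.2)] at hn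
  obtain ⟨w, hw, hwe⟩ := Cfsg.Agent.H658.exists_nonunit_of_height_pos hM
    (exists_orderOf_eq_pow hM hmax.1.1 Nat.prime_two hv) (centralizer_bP hM hmax.1.1 hv) hind
    (blockDefect_bP hM hmax hab hv) hχ hχ h0
  have hd : 2 ^ blockDefect 2 B = 16 := by
    rw [pow_blockDefect' hM hmax hab, hcard]
  have hd' : ((2 : ℕ) : ℂ) ^ blockDefect 2 B = 16 := by exact_mod_cast hd
  rw [hd', ← hn] at hwe
  have h1 : MemLocalIdeal M (((n * n : ℤ)) : ℂ) := by
    rw [hwe]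
    exact memLocalIdeal_mul_left (memLocalRing_pow (memLocalRing_natCast _) _) hw
  have h2 : (2 : ℤ) ∣ n * n := by
    have h3 := (memLocalIdeal_intCast_iff hM _).1 h1
    exact_mod_cast h3
  rcases Int.even_mul.1 (even_iff_two_dvd.2 h2) with h | h <;> exact h

/-- **Defect group `2 ^ 4`, inertial index nine: all heights are zero.** -/
theorem height_zero_nine (hM : IsPModular 2 M) {B : Set (IrrCharacter G)} {a : BrauerPairIdx G}
    (hmax : IsMaximalBrauerPair 2 M B a.1 a.2) (hcard : Nat.card a.1 = 16)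
    (hel : ∀ x ∈ a.1, x * x = 1)
    (hidx : (Subgroup.centralizer (a.1 : Set G)).relIndex (stab a) = 9) :
    ∀ χ ∈ B, blockHeight 2 B (χ : G → ℂ) = 0 := by
  intro χ hχ
  by_contra h0
  have := Core.finite_irr (G := G)
  have : Fintype B := Fintype.ofFinite _
  obtain ⟨h8, v, d, x, y, hd, hx, hy, hxy, hxd, hyd, hd0⟩ := rows_nine hM hmax hcard hel hidx
  have hel' : ∀ x : a.1, x * x = 1 := fun x => Subtype.ext (hel x x.2)
  have hab : ∀ x ∈ a.1, ∀ y ∈ a.1, x * y = y * x := fun x hx y hy =>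
    congrArg Subtype.val (AutNine.comm_of_el hel' ⟨x, hx⟩ ⟨y, hy⟩)
  have h1 := Cfsg.Agent.H603.DX.int_end (d := fun c : B => d c) hx hy hxy hxd hyd hd0 h8 ⟨χ, hχ⟩
  exact (Int.not_even_iff_odd.2 h1) (even_of_height hM hmax hcard hab v.2 hχ h0 (hd χ χ))

omit [Fintype G] [M.IsPrime] in
/-- The case of index nine in the form of `PA4` of `H613/KS/Props.lean`. -/
theorem heights_nine [Finite G] (hM : IsPModular 2 M)
    {B : Set (IrrCharacter G)} (hB : IsPBlock M B) {D : Subgroup G} (hD : IsDefectGroup 2 M B D)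
    (hE : Cfsg.Agent.H613.KS.E16 D) (c : Set (IrrCharacter ↥(Subgroup.centralizer (D : Set G))))
    (hc : IsInducedBlock M (Subgroup.centralizer (D : Set G)) c B) (T : Subgroup G)
    (hT : ∀ g : G, g ∈ T ↔ (g ∈ Subgroup.normalizer (D : Set G) ∧
      StabilizesBlock (Subgroup.centralizer (D : Set G)) c g))
    (h9 : (Subgroup.centralizer (D : Set G)).relIndex T = 9) :
    ∀ χ ∈ B, blockHeight 2 B (χ : G → ℂ) = 0 := by
  have := isPrime_of_isPModular hM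
  have := Fintype.ofFinite G
  have hp2 : Fact (Nat.Prime 2) := ⟨Nat.prime_two⟩
  have hDp : IsPGroup 2 D := IsPGroup.of_card (n := 4) (by rw [hE.card]; norm_num)
  have hpair : IsBrauerPairOf 2 M B D c := (isBrauerPairOf_iff_isInducedBlock hM hB hDp hc.1).2 hc
  have hmax := H644.isMaximalBrauerPair_of_isDefectGroup hM hpair hD
  have hT' : T = stab ⟨D, c⟩ := by
    ext g
    rw [hT, mem_stab, conjIdx_eq_iff hc.1 g]
  exact height_zero_nine hM (a := ⟨D, c⟩) hmax hE.card hE.inv (hT' ▸ h9)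

end Cfsg.Agent.H618.KS
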